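import Groth.Agent.L25.TwConst.Local
import Groth.Agent.L23.CoprodFinite
import Groth.Agent.S9782
import Mathlib.AlgebraicGeometry.Noetherian
import Mathlib.Topology.Sober

/-!
# Connected components of twisted constant schemes over geometrically unibranch bases
-/

set_option autoImplicit false
universe u v

open CategoryTheory CategoryTheory.Limits AlgebraicGeometry TopologicalSpace

set_option linter.style.haveILetI false
set_option backward.isDefEq.respectTransparency.types false

noncomputable section

namespace Groth.L25.TwConst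

/-- In a locally Noetherian scheme whose points lie on a single irreducible component, irreducible
components are open. -/
theorem isOpen_irreducibleComponent_of_unique {X : Scheme.{u}} [IsLocallyNoetherian X]
    (huniq : ∀ x : X, ∀ Z ∈ irreducibleComponents X, x ∈ Z → Z = irreducibleComponent x) (x : X) :
    IsOpen (irreducibleComponent x) := by
  refine isOpen_iff_mem_nhds.2 fun y hy => ?_
  obtain ⟨N, hN, hyN, -⟩ := exists_isAffineOpen_mem_and_subset (X := X) (x := y) (U := ⊤) trivial
  haveI := IsLocallyNoetherian.component_noetherian ⟨N, hN⟩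
  haveI : NoetherianSpace (N : Set X) := noetherianSpace_of_isAffineOpen N hN
  let y' : (N : Set X) := ⟨y, hyN⟩
  let bad : Set (N : Set X) := ⋃ Z ∈ {Z ∈ irreducibleComponents (N : Set X) | y' ∉ Z}, Z
  have hbad : IsClosed bad :=
    ((NoetherianSpace.finite_irreducibleComponents).subset fun _ h => h.1).isClosed_biUnion
      fun Z hZ => isClosed_of_mem_irreducibleComponents Z hZ.1
  refine mem_nhds_iff.2 ⟨Subtype.val '' badᶜ, ?_, N.2.isOpenMap_subtype_val _ hbad.isOpen_compl,
    y', ?_, rfl⟩
  · rintro _ ⟨p, hp, rfl⟩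
    have hyc : y' ∈ irreducibleComponent p := by
      by_contra hne
      exact hp (Set.mem_iUnion₂.2 ⟨irreducibleComponent p,
        ⟨irreducibleComponent_mem_irreducibleComponents p, hne⟩, mem_irreducibleComponent⟩)
    have hirr : IsPreirreducible (Subtype.val '' irreducibleComponent p) :=
      isIrreducible_irreducibleComponent.2.image _ continuous_subtype_val.continuousOn
    obtain ⟨Z, hZp, hZsub, hZmax⟩ := exists_preirreducible _ hirr
    have hZ : Z ∈ irreducibleComponents X :=
      ⟨⟨⟨y, hZsub ⟨y', hyc, rfl⟩⟩, hZp⟩, fun W hW hle => (hZmax W hW.2 hle).le⟩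
    have h1 := huniq y Z hZ (hZsub ⟨y', hyc, rfl⟩)
    have h2 := huniq y _ (irreducibleComponent_mem_irreducibleComponents x) hy
    show p.1 ∈ irreducibleComponent x
    rw [h2, ← h1]
    exact hZsub ⟨p, mem_irreducibleComponent, rfl⟩
  · intro hmem
    obtain ⟨Z, hZ, hyZ⟩ := Set.mem_iUnion₂.1 hmem
    exact hZ.2 hyZ

theorem connectedComponent_eq_irreducibleComponent {X : Scheme.{u}} (x : X)
    (ho : IsOpen (irreducibleComponent x)) : connectedComponent x = irreducibleComponent x :=
  Set.Subset.antisymm
    (IsClopen.connectedComponent_subset ⟨isClosed_irreducibleComponent, ho⟩ mem_irreducibleComponent)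
    (isIrreducible_irreducibleComponent.isConnected.isPreconnected.subset_connectedComponent
      mem_irreducibleComponent)

variable {S : Scheme.{u}}

theorem unique_irreducibleComponent (hS : ∀ s : S, CAlg2.IsGeomUnibranch (S.presheaf.stalk s))
    {U : Scheme.{u}} (g : U ⟶ S) [Etale g] (x : U) :
    ∀ Z ∈ irreducibleComponents U, x ∈ Z → Z = irreducibleComponent x := by
  intro Z hZ hx
  have h := (Groth.Agent.S9782.result S (g x)).1 (hS _) U g x inferInstance rfl
  obtain ⟨W, hW⟩ := Set.encard_eq_one.1 h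
  have h1 : Z ∈ ({W} : Set (Set U)) := hW ▸ ⟨hZ, hx⟩
  have h2 : irreducibleComponent x ∈ ({W} : Set (Set U)) :=
    hW ▸ ⟨irreducibleComponent_mem_irreducibleComponents x, mem_irreducibleComponent⟩
  exact h1.trans h2.symm

theorem isFinite_of_isSplit_finite {Y T : Scheme.{u}} [IsAffine T] {p : Y ⟶ T} {I : Type u} [Finite I]
    {C : I → Y.Opens} (h : IsSplit p C) : IsFinite p := by
  obtain ⟨e⟩ := nonempty_iso_const (X := Over.mk p) h
  have h1 : IsFinite (TwC.const T I).hom := Groth.L23.Coprod.isFinite_sigmaDesc _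
  rw [← show e.hom.left ≫ (TwC.const T I).hom = p from Over.w e.hom]
  haveI : IsIso e.hom.left := (Over.forget _).map_isIso e.hom
  infer_instance

theorem exists_component_finite [IsLocallyNoetherian S]
    (hS : ∀ s : S, CAlg2.IsGeomUnibranch (S.presheaf.stalk s))
    (P : Over S) (hP : TwC.IsTwConst TwC.Topology.etale P) (x : P.left) :
    ∃ U : P.left.Opens, (U : Set P.left) = connectedComponent x ∧ IsFinite (U.ι ≫ P.hom) := by
  classical
  haveI := etale_of_fppf (fppf_of_etale hP)
  haveI : IsLocallyNoetherian P.left := LocallyOfFiniteType.isLocallyNoetherian P.hom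
  have ho := isOpen_irreducibleComponent_of_unique (unique_irreducibleComponent hS P.hom) x
  rw [connectedComponent_eq_irreducibleComponent x ho]
  let U : P.left.Opens := ⟨irreducibleComponent x, ho⟩
  refine ⟨U, rfl, of_fppf_local (P := @IsFinite) (U.ι ≫ P.hom) fun s => ?_⟩
  obtain ⟨T, f, hf, ⟨t, ht⟩, I, ⟨e⟩⟩ := hP s
  obtain ⟨C, hC⟩ := exists_split_of_iso f e
  haveI : IsLocallyNoetherian T := LocallyOfFiniteType.isLocallyNoetherian f
  have hto := isOpen_irreducibleComponent_of_unique (unique_irreducibleComponent hS f) t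
  obtain ⟨W, hW, htW, hWle⟩ := exists_isAffineOpen_mem_and_subset (X := T) (x := t)
    (U := ⟨irreducibleComponent t, hto⟩) mem_irreducibleComponent
  haveI : IsAffine W.toScheme := hW
  haveI : Nonempty W.toScheme := ⟨⟨t, htW⟩⟩
  haveI : IrreducibleSpace W.toScheme := by
    haveI : PreirreducibleSpace W.toScheme := by
      refine ⟨?_⟩
      have := (isIrreducible_irreducibleComponent (x := t)).2.preimage W.ι.isOpenEmbedding
      have hu : W.ι ⁻¹' irreducibleComponent t = Set.univ := Set.eq_univ_of_forall fun w => hWle w.2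
      rwa [hu] at this
    exact ⟨inferInstance⟩
  let f' := W.ι ≫ f
  haveI : Etale f' := inferInstance
  haveI : QuasiCompact f' := quasiCompact_of_compactSpace f'
  refine ⟨W.toScheme, f', inferInstance, inferInstance, ⟨⟨t, htW⟩, ht⟩, ?_⟩
  let k : pullback P.hom f' ⟶ pullback P.hom f :=
    pullback.lift (pullback.fst P.hom f') (pullback.snd P.hom f' ≫ W.ι)
      (by rw [pullback.condition, Category.assoc])
  have sqk : IsPullback k (pullback.snd P.hom f') (pullback.snd P.hom f) W.ι := by
    refine IsPullback.of_right ?_ (pullback.lift_snd _ _ _) (IsPullback.of_hasPullback P.hom f)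
    rw [pullback.lift_fst]
    exact IsPullback.of_hasPullback P.hom f'
  have h' := hC.baseChange sqk
  let q := pullback.fst P.hom f'
  let p := pullback.snd P.hom f'
  haveI : Etale q := MorphismProperty.pullback_fst P.hom f' ‹_›
  haveI : QuasiCompact q := MorphismProperty.pullback_fst P.hom f' ‹_›
  let ξ := (isIrreducible_irreducibleComponent (x := x)).genericPoint
  have hξ : IsGenericPoint ξ (irreducibleComponent x) := by
    have := (isIrreducible_irreducibleComponent (x := x)).isGenericPoint_genericPoint_closure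
    rwa [isClosed_irreducibleComponent.closure_eq] at this
  let η := genericPoint W.toScheme
  let I' := {i : I // q (h'.sec i η) ∈ U}
  have hI' : Finite I' := by
    have hfin : (q ⁻¹' {ξ}).Finite := q.finite_preimage_singleton ξ
    have hmem : ∀ i : I', q (h'.sec i.1 η) = ξ := fun i => by
      have hs : ξ ⤳ q (h'.sec i.1 η) := hξ.specializes i.2
      obtain ⟨y', hy', hyq⟩ := Flat.generalizingMap q hs
      have hyC : y' ∈ k ⁻¹ᵁ C i.1 := hy'.mem_open (k ⁻¹ᵁ C i.1).2 (h'.sec_mem i.1 η)
      have hp : p y' = η := by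
        refine ((hy'.map p.continuous).antisymm ?_).eq.trans (h'.p_sec i.1 η)
        rw [h'.p_sec]
        exact (genericPoint_spec W.toScheme).specializes trivial
      rw [← hyq, ← h'.sec_p hyC, hp]
    haveI := hfin.to_subtype
    refine Finite.of_injective (fun i : I' => (⟨h'.sec i.1 η, hmem i⟩ : q ⁻¹' {ξ})) fun i j hij => ?_
    have := congrArg h'.label (congrArg Subtype.val hij)
    rw [h'.label_sec, h'.label_sec] at this
    exact Subtype.ext this
  let Q := q ⁻¹ᵁ U
  have hQc : IsClopen (Q : Set ↑(pullback P.hom f')) :=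
    ⟨isClosed_irreducibleComponent.preimage q.continuous, Q.2⟩
  have hsheet : ∀ i y, y ∈ k ⁻¹ᵁ C i → (y ∈ Q ↔ h'.sec i η ∈ Q) := by
    intro i y hy
    have hs : h'.sec i η ⤳ y := by
      rw [← h'.sec_p hy]
      exact ((genericPoint_spec W.toScheme).specializes trivial).map (h'.sec i).continuous
    exact ⟨fun h => hs.mem_open Q.2 h, fun h => hs.mem_closed hQc.1 h⟩
  have hsplit : IsSplit (Q.ι ≫ p) (fun i : I' => Q.ι ⁻¹ᵁ (k ⁻¹ᵁ C i.1)) := by
    refine ⟨fun y => ?_, fun y i j hi hj => Subtype.ext (h'.disj y.1 _ _ hi hj), fun i => ?_⟩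
    · exact ⟨⟨h'.label y.1, (hsheet _ _ (h'.mem_label y.1)).1 y.2⟩, h'.mem_label y.1⟩
    · haveI := h'.iso i.1
      have hrange : Set.range (k ⁻¹ᵁ C i.1).ι ⊆ Set.range Q.ι := by
        rw [Scheme.Opens.range_ι, Scheme.Opens.range_ι]
        exact fun y hy => (hsheet _ _ hy).2 i.2
      haveI : IsIso (Q.ι ∣_ (k ⁻¹ᵁ C i.1)) := by
        haveI : Surjective (Q.ι ∣_ (k ⁻¹ᵁ C i.1)) := ⟨fun y => by
          obtain ⟨a, ha⟩ := hrange ⟨y, rfl⟩
          refine ⟨⟨a, show Q.ι a ∈ k ⁻¹ᵁ C i.1 from ha ▸ y.2⟩, Subtype.ext ?_⟩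
          exact (congrArg (fun φ : _ ⟶ pullback P.hom f' => φ _) (morphismRestrict_ι Q.ι (k ⁻¹ᵁ C i.1))).trans ha⟩
        exact (isIso_iff_isOpenImmersion_and_surjective _).2 ⟨inferInstance, inferInstance⟩
      rw [← Category.assoc, ← morphismRestrict_ι, Category.assoc]
      infer_instance
  have hfinQ : IsFinite (Q.ι ≫ p) := isFinite_of_isSplit_finite hsplit
  have sqU : IsPullback (q ∣_ U) (Q.ι ≫ p) (U.ι ≫ P.hom) f' :=
    (isPullback_morphismRestrict q U).paste_vert (IsPullback.of_hasPullback P.hom f')
  rw [← sqU.isoPullback_hom_snd, MorphismProperty.cancel_left_of_respectsIso @IsFinite] at hfinQ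
  exact hfinQ

end Groth.L25.TwConst
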