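import Groth.Prelude.Def_TwC
import Mathlib.AlgebraicGeometry.Morphisms.Descent
import Mathlib.AlgebraicGeometry.Morphisms.FlatDescent
import Mathlib.AlgebraicGeometry.Morphisms.LocalFlatDescent
import Mathlib.AlgebraicGeometry.Morphisms.FlatMono
import Mathlib.AlgebraicGeometry.Morphisms.UniversallyInjective
import Mathlib.AlgebraicGeometry.Morphisms.Etale
import Mathlib.AlgebraicGeometry.Morphisms.Finite

/-!
# Split schemes and twisted constant schemes
-/

set_option autoImplicit false
universe u v

open CategoryTheory CategoryTheory.Limits AlgebraicGeometry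

set_option linter.style.haveILetI false
set_option backward.isDefEq.respectTransparency.types false

noncomputable section

namespace Groth.L25.TwConst

variable {X Y S T : Scheme.{u}}

/-- A property of morphisms which is local on the target and descends along fppf covers may be
checked fppf locally. -/
theorem of_fppf_local {P : MorphismProperty Scheme.{u}} [IsZariskiLocalAtTarget P]
    [P.DescendsAlong (@Surjective ⊓ @Flat ⊓ @LocallyOfFinitePresentation)] (g : X ⟶ S)
    (H : ∀ s : S, ∃ (S' : Scheme.{u}) (f : S' ⟶ S), Flat f ∧ LocallyOfFinitePresentation f ∧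
      s ∈ Set.range f ∧ P (pullback.snd g f)) : P g := by
  choose T f hfl hfp hs hP using H
  let q : ∐ T ⟶ S := Sigma.desc f
  have h1 : Flat q := IsZariskiLocalAtSource.sigmaDesc hfl
  have h2 : LocallyOfFinitePresentation q := IsZariskiLocalAtSource.sigmaDesc hfp
  have h3 : Surjective q := ⟨fun s => by
    obtain ⟨z, hz⟩ := hs s
    refine ⟨Sigma.ι T s z, ?_⟩
    rw [← Scheme.Hom.comp_apply, Sigma.ι_desc]
    exact hz⟩
  refine MorphismProperty.of_pullback_snd_of_descendsAlong
    (Q := @Surjective ⊓ @Flat ⊓ @LocallyOfFinitePresentation) (g := q) ⟨⟨h3, h1⟩, h2⟩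
    (IsZariskiLocalAtTarget.of_openCover (P := P) (sigmaOpenCover T) fun s => ?_)
  refine (P.arrow_mk_iso_iff ?_).2 (hP s)
  refine Arrow.isoMk (pullbackLeftPullbackSndIso g q _ ≪≫
    pullback.congrHom rfl (Sigma.ι_desc f s)) (Iso.refl _) ?_
  simp only [Arrow.mk_left, Arrow.mk_right, Arrow.mk_hom, Scheme.Cover.pullbackHom, Iso.trans_hom,
    Iso.refl_hom, pullback.congrHom_hom, Category.assoc, Category.comp_id]
  erw [pullback.lift_snd, Category.comp_id, pullbackLeftPullbackSndIso_hom_snd]
  exact (Category.comp_id _).symm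

/-- `p` is split with the sheets `C i`. -/
structure IsSplit (p : Y ⟶ T) {I : Type v} (C : I → Y.Opens) : Prop where
  cover : ∀ y : Y, ∃ i, y ∈ C i
  disj : ∀ (y : Y) (i k : I), y ∈ C i → y ∈ C k → i = k
  iso : ∀ i, IsIso ((C i).ι ≫ p)

namespace IsSplit

variable {p : Y ⟶ T} {I : Type v} {C : I → Y.Opens} (h : IsSplit p C)
include h

/-- The section with values in the sheet `C i`. -/
def sec (i : I) : T ⟶ Y :=
  haveI := h.iso i
  inv ((C i).ι ≫ p) ≫ (C i).ι

theorem sec_comp (i : I) : h.sec i ≫ p = 𝟙 T := by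
  haveI := h.iso i
  simp [sec]

theorem p_sec (i : I) (t : T) : p (h.sec i t) = t := by
  rw [← Scheme.Hom.comp_apply, h.sec_comp]
  rfl

theorem sec_mem (i : I) (t : T) : h.sec i t ∈ C i := by
  haveI := h.iso i
  exact (inv ((C i).ι ≫ p) t).2

theorem sec_p {i : I} {y : Y} (hy : y ∈ C i) : h.sec i (p y) = y := by
  haveI := h.iso i
  have e : (((C i).ι ≫ p) ≫ inv ((C i).ι ≫ p)) ≫ (C i).ι = (C i).ι := by simp
  have := congrArg (fun φ : (C i).toScheme ⟶ Y => φ ⟨y, hy⟩) e
  exact this

/-- The sheet of a point. -/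
def label (y : Y) : I := (h.cover y).choose

theorem mem_label (y : Y) : y ∈ C (h.label y) := (h.cover y).choose_spec

theorem label_eq {i : I} {y : Y} (hy : y ∈ C i) : h.label y = i := h.disj y _ _ (h.mem_label y) hy

theorem label_sec (i : I) (t : T) : h.label (h.sec i t) = i := h.label_eq (h.sec_mem i t)

theorem sec_label (y : Y) : h.sec (h.label y) (p y) = y := h.sec_p (h.mem_label y)

theorem isLocallyConstant_label : IsLocallyConstant h.label :=
  (IsLocallyConstant.iff_exists_open _).2 fun y =>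
    ⟨C (h.label y), (C _).2, h.mem_label y, fun _ hz => h.label_eq hz⟩

theorem isClosed_sheet (i : I) : IsClosed (C i : Set Y) := by
  have : (C i : Set Y) = h.label ⁻¹' {i} :=
    Set.ext fun y => ⟨fun hy => h.label_eq hy, fun hy => by
      have := h.mem_label y
      rwa [show h.label y = i from hy] at this⟩
  rw [this]
  exact (h.isLocallyConstant_label.isClosed_fiber i)

/-- Splittings are stable under base change. -/
theorem baseChange {Y' T' : Scheme.{u}} {k : Y' ⟶ Y} {p' : Y' ⟶ T'} {g : T' ⟶ T}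
    (sq : IsPullback k p' p g) : IsSplit p' (fun i => k ⁻¹ᵁ C i) where
  cover y := h.cover (k y)
  disj y := h.disj (k y)
  iso i := by
    haveI := h.iso i
    exact ((isPullback_morphismRestrict k (C i)).paste_vert sq).isIso_snd_of_isIso

end IsSplit

/-- An isomorphism with a constant scheme gives a splitting. -/
theorem exists_split_of_iso {X : Over S} {I : Type v} [Small.{u} I] (f : T ⟶ S)
    (e : Red.bc f X ≅ TwC.const T I) :
    ∃ C : I → (pullback X.hom f).Opens, IsSplit (pullback.snd X.hom f) C := by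
  let κ := fun i : I => Sigma.ι (fun _ : I => T) i
  let σ : I → (T ⟶ pullback X.hom f) := fun i => κ i ≫ e.inv.left
  haveI : IsIso e.inv.left := (Over.forget _).map_isIso e.inv
  have hσp : ∀ i, σ i ≫ pullback.snd X.hom f = 𝟙 T := fun i => by
    have hw : e.inv.left ≫ pullback.snd X.hom f = (TwC.const T I).hom := Over.w e.inv
    simp only [σ, Category.assoc]
    rw [hw]
    exact Sigma.ι_desc _ _
  haveI : ∀ i, IsOpenImmersion (σ i) := fun i =>
    inferInstanceAs (IsOpenImmersion (Sigma.ι (fun _ : I => T) i ≫ e.inv.left))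
  refine ⟨fun i => (σ i).opensRange, fun y => ?_, fun y i k hi hk => ?_, fun i => ?_⟩
  · obtain ⟨i, t, ht⟩ := (sigmaOpenCover (fun _ : I => T)).exists_eq (e.hom.left y)
    refine ⟨i, t, ?_⟩
    have h1 : e.inv.left (e.hom.left y) = y := by
      rw [← Scheme.Hom.comp_apply, ← Over.comp_left, Iso.hom_inv_id]
      rfl
    exact (congrArg e.inv.left ht).trans h1
  · obtain ⟨a, ha⟩ := hi
    obtain ⟨b, hb⟩ := hk
    have heq : κ i a = κ k b := e.inv.left.injective (ha.trans hb.symm)
    obtain ⟨rfl⟩ := (sigmaι_eq_iff _ _ _ _ _).mp heq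
    rfl
  · have : (σ i).opensRange.ι ≫ pullback.snd X.hom f =
        (σ i).isoOpensRange.inv ≫ σ i ≫ pullback.snd X.hom f := by
      rw [← Category.assoc, Scheme.Hom.isoOpensRange_inv_comp]
    rw [this, hσp, Category.comp_id]
    infer_instance

/-- A split morphism whose source has sheets indexed by `I` is constant. -/
theorem nonempty_iso_const {X : Over S} {I : Type u} {C : I → X.left.Opens}
    (h : IsSplit X.hom C) : Nonempty (X ≅ TwC.const S I) := by
  let α : I → (S ⟶ X.left) := h.sec
  haveI : ∀ i, IsOpenImmersion (α i) := fun i => by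
    haveI := h.iso i
    exact inferInstanceAs (IsOpenImmersion (inv ((C i).ι ≫ X.hom) ≫ (C i).ι))
  let q : ∐ (fun _ : I => S) ⟶ X.left := Sigma.desc α
  haveI : IsOpenImmersion q := by
    refine isOpenImmersion_sigmaDesc _ α fun i k hik => ?_
    refine Set.disjoint_left.2 fun y ⟨a, ha⟩ ⟨b, hb⟩ => hik (h.disj y i k ?_ ?_)
    · exact ha ▸ h.sec_mem i a
    · exact hb ▸ h.sec_mem k b
  haveI : Surjective q := ⟨fun y => ⟨Sigma.ι (fun _ : I => S) (h.label y) (X.hom y), by
    rw [← Scheme.Hom.comp_apply, Sigma.ι_desc]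
    exact h.sec_label y⟩⟩
  haveI : IsIso q := (isIso_iff_isOpenImmersion_and_surjective _).2 ⟨inferInstance, inferInstance⟩
  exact ⟨(Over.isoMk (f := TwC.const S I) (g := X) (asIso q)
    (Sigma.hom_ext _ _ fun i => by
      simp only [asIso_hom, q, Sigma.ι_desc_assoc]
      refine (h.sec_comp i).trans ?_
      show 𝟙 S = Sigma.ι (fun _ : I => S) i ≫ Sigma.desc (fun _ : I => 𝟙 S)
      rw [Sigma.ι_desc])).symm⟩

theorem etale_of_isSplit {p : Y ⟶ T} {I : Type v} {C : I → Y.Opens} (h : IsSplit p C) : Etale p :=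
  IsZariskiLocalAtSource.of_iSup_eq_top C (eq_top_iff.2 fun y _ => TopologicalSpace.Opens.mem_iSup.2 (h.cover y))
    fun i => by
      haveI := h.iso i
      infer_instance

/-- An fppf twisted constant scheme is étale. -/
theorem etale_of_fppf {X : Over S} (hX : TwC.IsTwConst TwC.Topology.fppf X) : Etale X.hom := by
  refine of_fppf_local (P := @Etale) X.hom fun s => ?_
  obtain ⟨S', f, hfl, hfp, hs, I, ⟨e⟩⟩ := hX s
  obtain ⟨C, hC⟩ := exists_split_of_iso f e
  exact ⟨S', f, hfl, hfp, hs, etale_of_isSplit hC⟩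

theorem fppf_of_etale {X : Over S} (hX : TwC.IsTwConst TwC.Topology.etale X) :
    TwC.IsTwConst TwC.Topology.fppf X := fun s => by
  obtain ⟨S', f, hf, h⟩ := hX s
  exact ⟨S', f, inferInstance, inferInstance, h⟩

end Groth.L25.TwConst
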