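import Groth.Agent.L25.TwConst.Local
import Groth.Agent.L27.TopInv.Sections
import Mathlib.AlgebraicGeometry.Morphisms.UniversallyClosed
import Mathlib.Topology.LocallyConstant.Basic

/-!
# Descent of constancy along surjective universally closed morphisms

An étale scheme which becomes split over a surjective universally closed `T ⟶ V` is constant, provided
every point of `T ×_V T` is linked by a generalization to the fibre over a point `u` of `V` above
which `T` is a finite union of radicial points.
-/

set_option autoImplicit false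
universe u v w

open CategoryTheory CategoryTheory.Limits AlgebraicGeometry

set_option linter.style.haveILetI false
set_option backward.isDefEq.respectTransparency.types false

noncomputable section

namespace Groth.L25.TwConst

/-- An étale morphism which becomes an isomorphism after a surjective base change is one. -/
theorem isIso_of_surjective_baseChange {Z Z' T V : Scheme.{u}} {k : Z' ⟶ Z} {f' : Z' ⟶ T}
    {f : Z ⟶ V} {π : T ⟶ V} (sq : IsPullback k f' f π) [Etale f] [IsIso f'] [Surjective π] :
    IsIso f := by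
  haveI hs : Surjective f := by
    haveI : Surjective (k ≫ f) := by rw [sq.w]; infer_instance
    exact Surjective.of_comp k f
  haveI : UniversallyInjective f := by
    rw [UniversallyInjective.iff_diagonal]
    haveI : UniversallyInjective f' := inferInstance
    have hd : Surjective (pullback.diagonal f') := (UniversallyInjective.iff_diagonal f').1 ‹_›
    refine ⟨fun z => ?_⟩
    let g := pullback.fst f f ≫ f
    obtain ⟨τ, hτ⟩ := π.surjective (g z)
    obtain ⟨q, hq, -⟩ := Scheme.Pullback.exists_preimage_pullback (f := g) (g := π) z τ hτ.symm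
    let a : pullback g π ⟶ Z' := sq.lift (pullback.fst g π ≫ pullback.fst f f) (pullback.snd g π)
      ((Category.assoc _ _ _).trans pullback.condition)
    let b : pullback g π ⟶ Z' := sq.lift (pullback.fst g π ≫ pullback.snd f f) (pullback.snd g π)
      (by rw [Category.assoc, ← pullback.condition (f := f) (g := f)]; exact pullback.condition)
    let r : pullback g π ⟶ pullback f' f' :=
      pullback.lift a b ((sq.lift_snd _ _ _).trans (sq.lift_snd _ _ _).symm)
    obtain ⟨z', hz'⟩ := hd.surj (r q)
    let m : pullback f' f' ⟶ pullback f f :=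
      pullback.lift (pullback.fst f' f' ≫ k) (pullback.snd f' f' ≫ k)
        (by simp [sq.w, pullback.condition_assoc])
    have hrm : r ≫ m = pullback.fst g π := by
      apply pullback.hom_ext
      · rw [Category.assoc]
        erw [pullback.lift_fst]
        rw [← Category.assoc]
        erw [pullback.lift_fst]
        exact sq.lift_fst _ _ _
      · rw [Category.assoc]
        erw [pullback.lift_snd]
        rw [← Category.assoc]
        erw [pullback.lift_snd]
        exact sq.lift_fst _ _ _
    have hdm : pullback.diagonal f' ≫ m = k ≫ pullback.diagonal f := by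
      apply pullback.hom_ext
      · rw [Category.assoc, Category.assoc, pullback.diagonal_fst, Category.comp_id]
        erw [pullback.lift_fst]
        rw [← Category.assoc, pullback.diagonal_fst, Category.id_comp]
      · rw [Category.assoc, Category.assoc, pullback.diagonal_snd, Category.comp_id]
        erw [pullback.lift_snd]
        rw [← Category.assoc, pullback.diagonal_snd, Category.id_comp]
    refine ⟨k z', ?_⟩
    rw [← Scheme.Hom.comp_apply, ← hdm, Scheme.Hom.comp_apply, hz', ← Scheme.Hom.comp_apply, hrm, hq]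
  haveI := Groth.L27.TopInv.isOpenImmersion_of_etale_univInjective f
  exact (isIso_iff_isOpenImmersion_and_surjective _).2 ⟨inferInstance, inferInstance⟩

variable {V T Y : Scheme.{u}}

theorem exists_iso_const (X : Over V) [Etale X.hom] (π : T ⟶ V) [Surjective π] [UniversallyClosed π]
    (u : V) {k : Y ⟶ X.left} {p : Y ⟶ T} (sq : IsPullback k p X.hom π)
    {I : Type v} {C : I → Y.Opens} (h : IsSplit p C)
    {κ : Type w} (P : κ → T.Opens) (t : κ → T) (hcov : ∀ τ, ∃ a, τ ∈ P a)
    (hdisj : ∀ (τ : T) (a b : κ), τ ∈ P a → τ ∈ P b → a = b)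
    (ht : ∀ a, t a ∈ P a ∧ π (t a) = u) (huniq : ∀ a, ∀ τ ∈ P a, π τ = u → τ = t a)
    (hrad : ∀ a, ∀ y₁ y₂ : Y, p y₁ = t a → p y₂ = t a → k y₁ = k y₂ → y₁ = y₂)
    (hgen : ∀ z : ↑(pullback π π), ∃ e w : ↑(pullback π π), e ⤳ z ∧ e ⤳ w ∧
      π (pullback.fst π π w) = u) :
    ∃ J : Type u, Nonempty (X ≅ TwC.const V J) := by
  classical
  choose piece hpiece using hcov
  have piece_eq : ∀ {τ : T} {a : κ}, τ ∈ P a → piece τ = a := fun hτ => hdisj _ _ _ (hpiece _) hτ
  have hplc : IsLocallyConstant piece :=
    (IsLocallyConstant.iff_exists_open _).2 fun τ => ⟨P (piece τ), (P _).2, hpiece τ, fun _ => piece_eq⟩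
  let J := {x : X.left // X.hom x = u}
  let L : Y → J := fun y => ⟨k (h.sec (h.label y) (t (piece (p y)))), by
    rw [← Scheme.Hom.comp_apply, sq.w, Scheme.Hom.comp_apply, h.p_sec]
    exact (ht _).2⟩
  have hLlc : IsLocallyConstant L :=
    (IsLocallyConstant.prodMk h.isLocallyConstant_label
      (hplc.comp_continuous (f := fun y => p y) p.continuous)).comp
      (fun q : I × κ => (⟨k (h.sec q.1 (t q.2)), by
        rw [← Scheme.Hom.comp_apply, sq.w, Scheme.Hom.comp_apply, h.p_sec]
        exact (ht _).2⟩ : J))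
  have hLu : ∀ y : Y, π (p y) = u → (L y).1 = k y := fun y hy => by
    show k (h.sec (h.label y) (t (piece (p y)))) = k y
    rw [← huniq _ _ (hpiece (p y)) hy, h.sec_label]
  -- labels agree on the fibres of `k`
  let π₁ := pullback.fst π π
  let π₂ := pullback.snd π π
  let pr := pullback.fst X.hom (π₁ ≫ π)
  let ps := pullback.snd X.hom (π₁ ≫ π)
  let q₁ : pullback X.hom (π₁ ≫ π) ⟶ Y := sq.lift pr (ps ≫ π₁)
    (pullback.condition.trans (Category.assoc _ _ _).symm)
  let q₂ : pullback X.hom (π₁ ≫ π) ⟶ Y := sq.lift pr (ps ≫ π₂)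
    (by rw [Category.assoc]; exact pullback.condition.trans (congrArg (ps ≫ ·) pullback.condition))
  have hq1k : q₁ ≫ k = pr := sq.lift_fst _ _ _
  have hq2k : q₂ ≫ k = pr := sq.lift_fst _ _ _
  have hq1p : q₁ ≫ p = ps ≫ π₁ := sq.lift_snd _ _ _
  have hq2p : q₂ ≫ p = ps ≫ π₂ := sq.lift_snd _ _ _
  have sq₁ : IsPullback q₁ ps p π₁ := by
    refine IsPullback.of_right ?_ hq1p sq
    rw [hq1k]
    exact IsPullback.of_hasPullback X.hom (π₁ ≫ π)
  have sq₁₂ : IsPullback q₂ q₁ k k := by
    refine IsPullback.of_right ?_ (hq2k.trans hq1k.symm) sq.flip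
    have := (sq₁.paste_vert (IsPullback.of_hasPullback π π)).flip
    rw [← hq2p, ← sq.w] at this
    exact this
  have h₁ := h.baseChange sq₁
  have hA : ∀ z, L (q₁ z) = L (q₂ z) := by
    intro z
    have hlc : IsLocallyConstant fun z => (L (q₁ z), L (q₂ z)) :=
      (hLlc.comp_continuous q₁.continuous).prodMk (hLlc.comp_continuous q₂.continuous)
    let A : Set ↑(pullback X.hom (π₁ ≫ π)) := (fun z => (L (q₁ z), L (q₂ z))) ⁻¹' {q | q.1 = q.2}
    let σ := h₁.sec (h₁.label z)
    have hAo : IsOpen (σ ⁻¹' A) := (hlc _).preimage σ.continuous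
    have hAc : IsClosed (σ ⁻¹' A) := by
      refine (isOpen_compl_iff.1 ?_).preimage σ.continuous
      exact hlc {q | q.1 = q.2}ᶜ
    obtain ⟨e, w, hez, hew, hwu⟩ := hgen (ps z)
    have hw : w ∈ σ ⁻¹' A := by
      show L (q₁ (σ w)) = L (q₂ (σ w))
      have hps : ps (σ w) = w := h₁.p_sec _ w
      refine Subtype.ext ?_
      have e1 : k (q₁ (σ w)) = pr (σ w) := congrArg (fun φ : _ ⟶ X.left => φ (σ w)) hq1k
      have e2 : k (q₂ (σ w)) = pr (σ w) := congrArg (fun φ : _ ⟶ X.left => φ (σ w)) hq2k
      rw [hLu, hLu, e1, e2]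
      · have e : p (q₂ (σ w)) = π₂ (ps (σ w)) :=
          congrArg (fun φ : _ ⟶ T => φ (σ w)) hq2p
        have e' : π (π₁ w) = π (π₂ w) := congrArg (fun φ : _ ⟶ V => φ w) pullback.condition
        rw [e, hps, ← e']
        exact hwu
      · have e : p (q₁ (σ w)) = π₁ (ps (σ w)) :=
          congrArg (fun φ : _ ⟶ T => φ (σ w)) hq1p
        rw [e, hps]
        exact hwu
    have := hez.mem_closed hAc (hew.mem_open hAo hw)
    have hz : σ (ps z) = z := h₁.sec_label z
    rw [Set.mem_preimage, hz] at this
    exact this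
  have hfib : ∀ y₁ y₂ : Y, k y₁ = k y₂ → L y₁ = L y₂ := fun y₁ y₂ hy => by
    obtain ⟨z, h2, h1⟩ := Scheme.exists_preimage_of_isPullback sq₁₂ y₂ y₁ hy.symm
    rw [← h1, ← h2]
    exact hA z
  -- the sheets on `X`
  haveI : UniversallyClosed k := MorphismProperty.of_isPullback sq.flip ‹UniversallyClosed π›
  haveI : Surjective k := MorphismProperty.of_isPullback sq.flip ‹Surjective π›
  let Z : J → X.left.Opens := fun j =>
    ⟨(k '' (L ⁻¹' {j}ᶜ))ᶜ, (k.isClosedMap _ (hLlc.isOpen_fiber j).isClosed_compl).isOpen_compl⟩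
  have hmem : ∀ (j : J) (y : Y), k y ∈ Z j ↔ L y = j := by
    intro j y
    constructor
    · intro hy
      by_contra hne
      exact hy ⟨y, hne, rfl⟩
    · rintro hy ⟨y', hy', e⟩
      exact hy' ((hfib y' y e).trans hy)
  refine ⟨J, nonempty_iso_const (C := Z) ⟨fun x => ?_, fun x i j hi hj => ?_, fun j => ?_⟩⟩
  · obtain ⟨y, rfl⟩ := k.surjective x
    exact ⟨L y, (hmem _ _).2 rfl⟩
  · obtain ⟨y, rfl⟩ := k.surjective x
    exact ((hmem _ _).1 hi).symm.trans ((hmem _ _).1 hj)
  · let W := k ⁻¹ᵁ Z j
    haveI : IsOpenImmersion (W.ι ≫ p) := by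
      refine IsOpenImmersion.of_forall_source_exists _ (fun y₁ y₂ hp => ?_) fun y => ?_
      · have hp' : p y₁.1 = p y₂.1 := hp
        have e : L y₁.1 = L y₂.1 := ((hmem _ _).1 y₁.2).trans ((hmem _ _).1 y₂.2).symm
        have e' : k (h.sec (h.label y₁.1) (t (piece (p y₁.1)))) =
            k (h.sec (h.label y₂.1) (t (piece (p y₁.1)))) := by
          have := congrArg Subtype.val e
          show _ = k (h.sec (h.label y₂.1) (t (piece (p y₁.1))))
          conv_rhs => rw [hp']
          exact this
        have el := congrArg h.label (hrad _ _ _ (h.p_sec _ _) (h.p_sec _ _) e')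
        rw [h.label_sec, h.label_sec] at el
        refine Subtype.ext ?_
        rw [← h.sec_label y₁.1, ← h.sec_label y₂.1, el, hp']
      · let i := h.label y.1
        haveI := h.iso i
        refine ⟨(W.ι ⁻¹ᵁ C i).toScheme, (W.ι ⁻¹ᵁ C i).ι, inferInstance, ⟨⟨y, h.mem_label y.1⟩, rfl⟩, ?_⟩
        have : IsOpenImmersion ((W.ι ∣_ C i) ≫ (C i).ι ≫ p) := inferInstance
        rw [← Category.assoc, morphismRestrict_ι, Category.assoc] at this
        exact this
    haveI : Surjective (W.ι ≫ p) := ⟨fun τ => by
      let a := piece τ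
      obtain ⟨y, hyk, hyp⟩ := Scheme.exists_preimage_of_isPullback sq j.1 (t a) (j.2.trans (ht a).2.symm)
      refine ⟨⟨h.sec (h.label y) τ, (hmem _ _).2 (Subtype.ext ?_)⟩, h.p_sec _ _⟩
      show k (h.sec (h.label (h.sec (h.label y) τ)) (t (piece (p (h.sec (h.label y) τ))))) = j.1
      rw [h.label_sec, h.p_sec, show t (piece τ) = p y from hyp.symm, h.sec_label, hyk]⟩
    haveI : IsIso (W.ι ≫ p) :=
      (isIso_iff_isOpenImmersion_and_surjective _).2 ⟨inferInstance, inferInstance⟩
    haveI : Etale ((Z j).ι ≫ X.hom) := inferInstance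
    exact isIso_of_surjective_baseChange ((isPullback_morphismRestrict k (Z j)).paste_vert sq)

end Groth.L25.TwConst
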