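import Groth.Agent.L25.TwConst.Local
import Groth.Agent.L25.FpqcLocal
import Groth.Agent.L23.CoprodFinite
import Groth.Agent.L04.SupportSh.Components

/-!
# Finite pieces of twisted constant schemes
-/

set_option autoImplicit false
universe u v

open CategoryTheory CategoryTheory.Limits AlgebraicGeometry TopologicalSpace

set_option linter.style.haveILetI false
set_option backward.isDefEq.respectTransparency.types false

noncomputable section

namespace Groth.L25.TwConst

variable {S : Scheme.{u}}

/-- A scheme split with finitely many sheets over an affine scheme is finite. -/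
theorem isFinite_of_isSplit_fin {Y T : Scheme.{u}} [IsAffine T] {p : Y ⟶ T} {I : Type u} [Finite I]
    {C : I → Y.Opens} (h : IsSplit p C) : IsFinite p := by
  obtain ⟨e⟩ := nonempty_iso_const (X := Over.mk p) h
  have h1 : IsFinite (TwC.const T I).hom := Groth.L23.Coprod.isFinite_sigmaDesc _
  rw [← show e.hom.left ≫ (TwC.const T I).hom = p from Over.w e.hom]
  haveI : IsIso e.hom.left := (Over.forget _).map_isIso e.hom
  infer_instance

/-- A closed immersion into a split scheme which is quasi-compact over an affine base is finite. -/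
theorem isFinite_of_closed_split {Y T Z : Scheme.{u}} [IsAffine T] {p : Y ⟶ T} {I : Type u}
    {C : I → Y.Opens} (h : IsSplit p C) (z : Z ⟶ Y) [IsClosedImmersion z] [QuasiCompact (z ≫ p)] :
    IsFinite (z ≫ p) := by
  haveI : CompactSpace Z := QuasiCompact.compactSpace_of_compactSpace (z ≫ p)
  obtain ⟨F, hF⟩ := (isCompact_range z.continuous).elim_finite_subcover (fun i => (C i : Set Y))
    (fun i => (C i).2) (fun y _ => Set.mem_iUnion.2 (h.cover y))
  let O : Y.Opens := ⟨⋃ i ∈ F, (C i : Set Y), isOpen_biUnion fun i _ => (C i).2⟩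
  let C' : {i // i ∈ F} → O.toScheme.Opens := fun i => O.ι ⁻¹ᵁ C i.1
  have hsplit : IsSplit (O.ι ≫ p) C' := by
    refine ⟨fun y => ?_, fun y i j hi hj => Subtype.ext (h.disj y.1 _ _ hi hj), fun i => ?_⟩
    · obtain ⟨i, hi, hy⟩ := Set.mem_iUnion₂.1 y.2
      exact ⟨⟨i, hi⟩, hy⟩
    · haveI := h.iso i.1
      haveI : Surjective (O.ι ∣_ C i.1) := ⟨fun y => by
        refine ⟨⟨⟨y.1, Set.mem_iUnion₂.2 ⟨i.1, i.2, y.2⟩⟩, y.2⟩, Subtype.ext ?_⟩
        exact congrArg (fun φ : _ ⟶ Y => φ _) (morphismRestrict_ι O.ι (C i.1))⟩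
      haveI : IsIso (O.ι ∣_ C i.1) :=
        (isIso_iff_isOpenImmersion_and_surjective _).2 ⟨inferInstance, inferInstance⟩
      rw [← Category.assoc, ← morphismRestrict_ι, Category.assoc]
      infer_instance
  haveI := isFinite_of_isSplit_fin hsplit
  have hrange : Set.range z ⊆ Set.range O.ι := by
    rw [Scheme.Opens.range_ι]
    exact fun y hy => hF hy
  let z' := IsOpenImmersion.lift O.ι z hrange
  have hz' : z' ≫ O.ι = z := IsOpenImmersion.lift_fac _ _ _
  haveI : IsClosedImmersion (z' ≫ O.ι) := hz' ▸ inferInstance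
  haveI : IsClosedImmersion z' := IsClosedImmersion.of_comp z' O.ι
  rw [← hz', Category.assoc]
  infer_instance

/-- A closed subscheme of a twisted constant scheme which is quasi-compact over the base is finite. -/
theorem isFinite_of_closed_quasiCompact (R : Over S) (hR : TwC.IsTwConst TwC.Topology.fpqc R)
    {Z : Scheme.{u}} (z : Z ⟶ R.left) [IsClosedImmersion z] [QuasiCompact (z ≫ R.hom)] :
    IsFinite (z ≫ R.hom) := by
  obtain ⟨S', f, hf, -, hV, hloc⟩ := hR
  refine Groth.L25.FpqcLocal.of_fpqc (P := @IsFinite) (z ≫ R.hom) (𝟙 S) f hV fun s' => ?_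
  obtain ⟨U, hU, I, ⟨e⟩⟩ := hloc s'
  obtain ⟨W, hW, hsW, hle⟩ := exists_isAffineOpen_mem_and_subset (X := S') (x := s') (U := U) hU
  haveI : IsAffine W.toScheme := hW
  refine ⟨W, hsW, ?_⟩
  refine Groth.L25.FpqcLocal.bc_comp (P := @IsFinite) (z ≫ R.hom) (pullback.snd (𝟙 S) (W.ι ≫ f))
    (W.ι ≫ f) _ (pullback.condition.symm.trans (Category.comp_id _)) ?_
  obtain ⟨C, hC⟩ := exists_split_of_iso (U.ι ≫ f) e
  let j : W.toScheme ⟶ U.toScheme := S'.homOfLE hle
  have hj : j ≫ U.ι = W.ι := Scheme.homOfLE_ι S' hle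
  let k : pullback R.hom (W.ι ≫ f) ⟶ pullback R.hom (U.ι ≫ f) :=
    pullback.lift (pullback.fst _ _) (pullback.snd _ _ ≫ j)
      (by rw [pullback.condition, Category.assoc, reassoc_of% hj])
  have sq : IsPullback k (pullback.snd R.hom (W.ι ≫ f)) (pullback.snd R.hom (U.ι ≫ f)) j := by
    refine IsPullback.of_right ?_ (pullback.lift_snd _ _ _) (IsPullback.of_hasPullback R.hom _)
    rw [pullback.lift_fst, reassoc_of% hj]
    exact IsPullback.of_hasPullback R.hom (W.ι ≫ f)
  have h' := hC.baseChange sq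
  let zW : pullback (z ≫ R.hom) (W.ι ≫ f) ⟶ pullback R.hom (W.ι ≫ f) :=
    pullback.lift (pullback.fst _ _ ≫ z) (pullback.snd _ _) (by rw [Category.assoc, pullback.condition])
  have hzW : zW ≫ pullback.snd R.hom (W.ι ≫ f) = pullback.snd _ _ := pullback.lift_snd _ _ _
  have sqz : IsPullback (pullback.fst (z ≫ R.hom) (W.ι ≫ f)) zW z (pullback.fst R.hom (W.ι ≫ f)) := by
    refine IsPullback.of_bot ?_ (pullback.lift_fst _ _ _).symm (IsPullback.of_hasPullback R.hom (W.ι ≫ f))
    rw [hzW]
    exact IsPullback.of_hasPullback (z ≫ R.hom) (W.ι ≫ f)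
  haveI : IsClosedImmersion zW := MorphismProperty.of_isPullback sqz ‹_›
  haveI : QuasiCompact (zW ≫ pullback.snd R.hom (W.ι ≫ f)) := by rw [hzW]; infer_instance
  rw [← hzW]
  exact isFinite_of_closed_split h' zW

/-- An open and closed subscheme of a quasi-isotrivial twisted constant scheme over a connected base
which has a finite fibre is finite. -/
theorem isFinite_of_clopen_fibre_finite [IsLocallyNoetherian S] [ConnectedSpace S]
    (P : Over S) (hP : TwC.IsTwConst TwC.Topology.etale P)
    {Z : Scheme.{u}} (z : Z ⟶ P.left) [IsOpenImmersion z] [IsClosedImmersion z]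
    (hs : ∃ s : S, Set.Finite ((z ≫ P.hom) ⁻¹' {s})) :
    IsFinite (z ≫ P.hom) := by
  classical
  let h := z ≫ P.hom
  -- connected charts
  have charts : ∀ s : S, ∃ (W : Scheme.{u}) (g : W ⟶ S), Etale g ∧ IsAffine W ∧ s ∈ Set.range g ∧
      ∃ (J : Type u) (C : J → (pullback h g).Opens), IsSplit (pullback.snd h g) C := by
    intro s
    obtain ⟨T, f, hf, ⟨t, ht⟩, I, ⟨e⟩⟩ := hP s
    obtain ⟨C, hC⟩ := exists_split_of_iso f e
    haveI : IsLocallyNoetherian T := LocallyOfFiniteType.isLocallyNoetherian f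
    obtain ⟨W₀, hW₀, htW₀, -⟩ := exists_isAffineOpen_mem_and_subset (X := T) (x := t) (U := ⊤) trivial
    haveI : IsAffine W₀.toScheme := hW₀
    haveI : IsLocallyNoetherian W₀.toScheme := isLocallyNoetherian_of_isOpenImmersion W₀.ι
    let O : W₀.toScheme.Opens :=
      ⟨connectedComponent ⟨t, htW₀⟩, Groth.L04.SupportSh.isOpen_connectedComponent _⟩
    haveI : IsClosedImmersion O.ι := IsClosedImmersion.of_isPreimmersion _ (by
      rw [Scheme.Opens.range_ι]; exact isClosed_connectedComponent)
    haveI : IsAffine O.toScheme := isAffine_of_isAffineHom O.ι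
    haveI : ConnectedSpace O.toScheme := isConnected_iff_connectedSpace.mp isConnected_connectedComponent
    let i : O.toScheme ⟶ T := O.ι ≫ W₀.ι
    let g := i ≫ f
    haveI : Etale g := inferInstance
    refine ⟨O.toScheme, g, inferInstance, inferInstance, ⟨⟨⟨t, htW₀⟩, mem_connectedComponent⟩, ht⟩, ?_⟩
    let k : pullback P.hom g ⟶ pullback P.hom f :=
      pullback.lift (pullback.fst _ _) (pullback.snd _ _ ≫ i) (by rw [pullback.condition, Category.assoc])
    have sq : IsPullback k (pullback.snd P.hom g) (pullback.snd P.hom f) i := by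
      refine IsPullback.of_right ?_ (pullback.lift_snd _ _ _) (IsPullback.of_hasPullback P.hom f)
      rw [pullback.lift_fst]
      exact IsPullback.of_hasPullback P.hom g
    have h' := hC.baseChange sq
    let zg : pullback h g ⟶ pullback P.hom g :=
      pullback.lift (pullback.fst _ _ ≫ z) (pullback.snd _ _)
        (by rw [Category.assoc]; exact pullback.condition)
    have hzg : zg ≫ pullback.snd P.hom g = pullback.snd h g := pullback.lift_snd _ _ _
    have sqz : IsPullback (pullback.fst h g) zg z (pullback.fst P.hom g) := by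
      refine IsPullback.of_bot ?_ (pullback.lift_fst _ _ _).symm (IsPullback.of_hasPullback P.hom g)
      rw [hzg]
      exact IsPullback.of_hasPullback h g
    haveI : IsClosedImmersion zg := MorphismProperty.of_isPullback sqz ‹_›
    haveI : IsOpenImmersion zg := MorphismProperty.of_isPullback sqz ‹_›
    -- a sheet is inside or outside
    have hsheet : ∀ (j : I) (w w' : O.toScheme), h'.sec j w ∈ Set.range zg → h'.sec j w' ∈ Set.range zg := by
      intro j w w' hw
      have : IsClopen (h'.sec j ⁻¹' Set.range zg) :=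
        ⟨zg.isClosedMap.isClosed_range.preimage (h'.sec j).continuous,
          zg.isOpenEmbedding.isOpen_range.preimage (h'.sec j).continuous⟩
      exact (this.eq_univ ⟨w, hw⟩).ge (Set.mem_univ w')
    refine ⟨{j : I // ∀ w, h'.sec j w ∈ Set.range zg}, fun j => zg ⁻¹ᵁ (k ⁻¹ᵁ C j.1), fun y => ?_,
      fun y a b ha hb => Subtype.ext (h'.disj _ _ _ ha hb), fun j => ?_⟩
    · refine ⟨⟨h'.label (zg y), fun w => hsheet _ ((pullback.snd P.hom g) (zg y)) w ?_⟩, h'.mem_label _⟩
      rw [h'.sec_label]
      exact ⟨y, rfl⟩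
    · haveI := h'.iso j.1
      haveI : Surjective (zg ∣_ (k ⁻¹ᵁ C j.1)) := ⟨fun y => by
        obtain ⟨a, ha⟩ := h'.sec_p y.2 ▸ j.2 ((pullback.snd P.hom g) y.1)
        refine ⟨⟨a, show zg a ∈ k ⁻¹ᵁ C j.1 from ha ▸ y.2⟩, Subtype.ext ?_⟩
        exact (congrArg (fun φ : _ ⟶ pullback P.hom g => φ _) (morphismRestrict_ι zg (k ⁻¹ᵁ C j.1))).trans ha⟩
      haveI : IsIso (zg ∣_ (k ⁻¹ᵁ C j.1)) :=
        (isIso_iff_isOpenImmersion_and_surjective _).2 ⟨inferInstance, inferInstance⟩
      rw [← hzg, ← Category.assoc, ← morphismRestrict_ι, Category.assoc]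
      infer_instance
  choose W g hg hW hsg J C hC using charts
  -- finiteness of the fibres is locally constant
  have key : ∀ (s : S) (w : W s), ((h ⁻¹' {g s w}).Finite ↔ Finite (J s)) := by
    intro s w
    haveI := hg s
    haveI := hW s
    let q := pullback.fst h (g s)
    have hmap : ∀ j, h (q ((hC s).sec j w)) = g s w := fun j => by
      rw [← Scheme.Hom.comp_apply, pullback.condition, Scheme.Hom.comp_apply, (hC s).p_sec]
    constructor
    · intro hfin
      haveI := hfin.to_subtype
      let m : J s → (h ⁻¹' {g s w}) := fun j => ⟨q ((hC s).sec j w), hmap j⟩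
      have hq : ∀ x : h ⁻¹' {g s w}, (m ⁻¹' {x}).Finite := fun x => by
        haveI : Etale q := MorphismProperty.pullback_fst h (g s) (hg s)
        haveI : QuasiCompact (g s) := quasiCompact_of_compactSpace _
        haveI : QuasiCompact q := MorphismProperty.pullback_fst h (g s) ‹_›
        refine Set.Finite.of_finite_image (f := fun j => (hC s).sec j w) ?_ fun a _ b _ hab => ?_
        · refine (q.finite_preimage_singleton x.1).subset ?_
          rintro _ ⟨j, hj, rfl⟩
          exact congrArg Subtype.val hj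
        · have := congrArg (hC s).label hab
          rwa [(hC s).label_sec, (hC s).label_sec] at this
      rw [← Set.finite_univ_iff]
      exact (Set.finite_univ.preimage' fun x _ => hq x : (m ⁻¹' Set.univ).Finite).subset fun a _ => trivial
    · intro hfin
      refine (Set.finite_range fun j => q ((hC s).sec j w)).subset fun x hx => ?_
      obtain ⟨y, hy, hy'⟩ := Scheme.Pullback.exists_preimage_pullback (f := h) (g := g s) x w hx
      refine ⟨(hC s).label y, ?_⟩
      show q ((hC s).sec _ w) = x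
      rw [← hy', (hC s).sec_label]
      exact hy
  let Fset := {s : S | (h ⁻¹' {s}).Finite}
  have hclopen : IsClopen Fset := by
    refine ⟨⟨isOpen_iff_mem_nhds.2 fun s hs' => ?_⟩, isOpen_iff_mem_nhds.2 fun s hs' => ?_⟩
    all_goals
      haveI := hg s
      obtain ⟨w, hw⟩ := hsg s
      refine Filter.mem_of_superset ((g s).isOpenMap.isOpen_range.mem_nhds ⟨w, hw⟩) ?_
      rintro _ ⟨w', rfl⟩
    · intro hfin
      exact hs' (by
        have h2 := (key s w).2 ((key s w').1 hfin)
        rwa [show g s w = s from hw] at h2)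
    · refine (key s w').2 ((key s w).1 ?_)
      rw [show g s w = s from hw]
      exact hs'
  have hall : ∀ s, (h ⁻¹' {s}).Finite := fun s => (hclopen.eq_univ hs).ge (Set.mem_univ s)
  refine of_fppf_local (P := @IsFinite) h fun s => ?_
  haveI := hg s
  obtain ⟨w, hw⟩ := hsg s
  haveI := hW s
  haveI : Finite (J s) := (key s w).1 (hall _)
  exact ⟨W s, g s, inferInstance, inferInstance, hsg s, isFinite_of_isSplit_fin (hC s)⟩

/-- Finite étale locally constant implies fpqc locally constant. -/
theorem fpqc_of_finiteEtale {P : ∀ (S' : Scheme.{u}), (S' ⟶ S) → Prop}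
    (h : TwC.Locally S TwC.Topology.finiteEtale P) : TwC.Locally S TwC.Topology.fpqc P := by
  obtain ⟨S', f, hf, het, hs, hloc⟩ := h
  refine ⟨S', f, inferInstance, hs, fun V hV => ⟨f ⁻¹ᵁ V, (hV.preimage f).isCompact, ?_⟩, fun s' => ?_⟩
  · exact Set.image_preimage_eq _ f.surjective
  · obtain ⟨U, hU, -, hP⟩ := hloc s'
    exact ⟨U, hU, hP⟩

/-- An isotrivial twisted constant scheme is a union of clopen pieces finite over the base. -/
theorem exists_clopen_finite {R : Over S} (hR : TwC.IsTwConst TwC.Topology.finiteEtale R) (x : R.left) :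
    ∃ U : R.left.Opens, x ∈ U ∧ IsClosed (U : Set R.left) ∧ IsFinite (U.ι ≫ R.hom) := by
  have hfpqc := fpqc_of_finiteEtale hR
  obtain ⟨S', f, hf, het, hs, hloc⟩ := hR
  obtain ⟨s', hs'⟩ := f.surjective (R.hom x)
  obtain ⟨W, hsW, hWc, I, ⟨e⟩⟩ := hloc s'
  obtain ⟨C, hC⟩ := exists_split_of_iso (W.ι ≫ f) e
  haveI : IsClosedImmersion W.ι := IsClosedImmersion.of_isPreimmersion _ (by
    rw [Scheme.Opens.range_ι]; exact hWc)
  let g := W.ι ≫ f
  haveI : IsFinite g := inferInstance
  haveI : Etale g := inferInstance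
  let q := pullback.fst R.hom g
  haveI : IsFinite q := MorphismProperty.pullback_fst R.hom g ‹_›
  haveI : Etale q := MorphismProperty.pullback_fst R.hom g ‹_›
  obtain ⟨y, hy, -⟩ := Scheme.Pullback.exists_preimage_pullback (f := R.hom) (g := g) x ⟨s', hsW⟩ hs'.symm
  let i := hC.label y
  let c : W.toScheme ⟶ R.left := hC.sec i ≫ q
  have hc : c ≫ R.hom = g := by
    simp only [c, q, Category.assoc, pullback.condition]
    rw [reassoc_of% hC.sec_comp i]
  have hrange : Set.range c = q '' (C i : Set ↑(pullback R.hom g)) := by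
    ext r
    constructor
    · rintro ⟨w, rfl⟩
      exact ⟨_, hC.sec_mem i w, rfl⟩
    · rintro ⟨a, ha, rfl⟩
      refine ⟨(pullback.snd R.hom g) a, ?_⟩
      show q (hC.sec i _) = q a
      rw [hC.sec_p ha]
  let U : R.left.Opens := ⟨q '' (C i : Set ↑(pullback R.hom g)), q.isOpenMap _ (C i).2⟩
  have hUc : IsClosed (U : Set R.left) := q.isClosedMap _ (hC.isClosed_sheet i)
  refine ⟨U, ⟨y, hC.mem_label y, hy⟩, hUc, ?_⟩
  haveI : IsClosedImmersion U.ι := IsClosedImmersion.of_isPreimmersion _ (by
    rw [Scheme.Opens.range_ι]; exact hUc)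
  haveI : QuasiCompact (U.ι ≫ R.hom) := by
    refine ⟨fun V hVo hVc => ?_⟩
    rw [U.ι.isOpenEmbedding.isInducing.isCompact_iff]
    have : (U.ι '' ((U.ι ≫ R.hom) ⁻¹' V)) = c '' (g ⁻¹' V) := by
      ext r
      constructor
      · rintro ⟨a, ha, rfl⟩
        obtain ⟨w, hw⟩ : U.ι a ∈ Set.range c := hrange ▸ a.2
        refine ⟨w, ?_, hw⟩
        show g w ∈ V
        rw [← hc, Scheme.Hom.comp_apply, hw]
        exact ha
      · rintro ⟨w, hw, rfl⟩
        refine ⟨⟨c w, show c w ∈ q '' _ from hrange ▸ ⟨w, rfl⟩⟩, ?_, rfl⟩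
        show R.hom (c w) ∈ V
        rw [← Scheme.Hom.comp_apply, hc]
        exact hw
    rw [this]
    exact (QuasiCompact.isCompact_preimage (f := g) V hVo hVc).image c.continuous
  exact isFinite_of_closed_quasiCompact R hfpqc U.ι

end Groth.L25.TwConst
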