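import Groth.Agent.L25.TwConst.Descend
import Groth.Agent.L20.QfRefine.Fppf
import Groth.Agent.L20.Weight.Isolate
import Mathlib.AlgebraicGeometry.Noetherian
import Mathlib.Topology.Sober

/-!
# fppf twisted constant schemes are quasi-isotrivial over locally Noetherian bases
-/

set_option autoImplicit false
universe u v w

open CategoryTheory CategoryTheory.Limits AlgebraicGeometry TopologicalSpace

set_option linter.style.haveILetI false
set_option backward.isDefEq.respectTransparency.types false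

noncomputable section

namespace Groth.L25.TwConst

/-- Universally injective morphisms are detected on field valued points. -/
theorem universallyInjective_iff_fieldPoints {T V : Scheme.{u}} (f : T ⟶ V) :
    UniversallyInjective f ↔ ∀ (K : Type u) [Field K],
      Function.Injective (fun g : Spec (.of K) ⟶ T => g ≫ f) :=
  (tfae_universallyInjective f).out 0 1

/-- A purely inseparable point is universally injective over the base. -/
theorem universallyInjective_point {T V : Scheme.{u}} (π : T ⟶ V) (t : T)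
    (h : letI := (π.residueFieldMap t).hom.toAlgebra
      IsPurelyInseparable ↑(V.residueField (π t)) ↑(T.residueField t)) :
    UniversallyInjective (T.fromSpecResidueField t ≫ π) := by
  refine (universallyInjective_iff_fieldPoints _).2 fun K _ g₁ g₂ hg => ?_
  letI := (π.residueFieldMap t).hom.toAlgebra
  haveI : IsPurelyInseparable ↑(V.residueField (π t)) ↑(T.residueField t) := h
  have e : (g₁ ≫ Spec.map (π.residueFieldMap t)) = g₂ ≫ Spec.map (π.residueFieldMap t) := by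
    rw [← cancel_mono (V.fromSpecResidueField (π t)), Category.assoc, Category.assoc,
      Scheme.Hom.SpecMap_residueFieldMap_fromSpecResidueField]
    exact hg
  obtain ⟨φ₁, rfl⟩ := Spec.map_surjective g₁
  obtain ⟨φ₂, rfl⟩ := Spec.map_surjective g₂
  rw [← Spec.map_comp, ← Spec.map_comp] at e
  have e' := congrArg CommRingCat.Hom.hom (Spec.map_injective e)
  refine congrArg Spec.map (CommRingCat.hom_ext ?_)
  exact IsPurelyInseparable.injective_comp_algebraMap
    (V.residueField (π t)) (T.residueField t) K e'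

/-- Near a point of a locally Noetherian base every point of a finite scheme is linked by a
generization to the fibre over that point. -/
theorem exists_nhd_linked {Q V : Scheme.{u}} [IsLocallyNoetherian V] (q : Q ⟶ V) [IsFinite q] (x : V) :
    ∃ V' : V.Opens, x ∈ V' ∧ IsAffineOpen V' ∧
      ∀ z : Q, q z ∈ V' → ∃ e w : Q, e ⤳ z ∧ e ⤳ w ∧ q w = x := by
  obtain ⟨V₀, hV₀, hx, -⟩ := exists_isAffineOpen_mem_and_subset (X := V) (x := x) (U := ⊤) trivial
  haveI : IsAffine V₀.toScheme := hV₀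
  let Q₀ := (q ⁻¹ᵁ V₀).toScheme
  let q₀ : Q₀ ⟶ V₀.toScheme := q ∣_ V₀
  haveI : IsFinite q₀ := IsZariskiLocalAtTarget.restrict ‹_› V₀
  haveI : IsLocallyNoetherian V₀.toScheme := isLocallyNoetherian_of_isOpenImmersion V₀.ι
  haveI : IsLocallyNoetherian Q₀ := LocallyOfFiniteType.isLocallyNoetherian q₀
  haveI : IsAffine Q₀ := isAffine_of_isAffineHom q₀
  haveI : IsNoetherian Q₀ := ⟨⟩
  let x₀ : V₀.toScheme := ⟨x, hx⟩
  let bad : Set Q₀ := ⋃ Z ∈ {Z ∈ irreducibleComponents Q₀ | ∀ y ∈ Z, q₀ y ≠ x₀}, Z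
  have hbad : IsClosed bad :=
    ((NoetherianSpace.finite_irreducibleComponents).subset fun _ h => h.1).isClosed_biUnion
      fun Z hZ => isClosed_of_mem_irreducibleComponents Z hZ.1
  have hxbad : x₀ ∉ q₀ '' bad := by
    rintro ⟨y, hy, hyx⟩
    obtain ⟨Z, hZ, hyZ⟩ := Set.mem_iUnion₂.1 hy
    exact hZ.2 y hyZ hyx
  let N : V.Opens := V₀.ι ''ᵁ ⟨(q₀ '' bad)ᶜ, (q₀.isClosedMap _ hbad).isOpen_compl⟩
  obtain ⟨V', hV', hxV', hle⟩ :=
    exists_isAffineOpen_mem_and_subset (X := V) (x := x) (U := N) ⟨x₀, hxbad, rfl⟩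
  refine ⟨V', hxV', hV', fun z hz => ?_⟩
  obtain ⟨y₀, hy₀, hyz⟩ := hle hz
  have hzV : q z ∈ V₀ := hyz ▸ y₀.2
  let z₀ : Q₀ := ⟨z, hzV⟩
  have hq₀ : ∀ y : Q₀, (q₀ y).1 = q y.1 := fun y => by
    change (V₀.ι (q₀ y)) = q ((q ⁻¹ᵁ V₀).ι y)
    rw [← Scheme.Hom.comp_apply, morphismRestrict_ι, Scheme.Hom.comp_apply]
  have hzbad : z₀ ∉ bad := fun h => hy₀ ⟨z₀, h, Subtype.ext ((hq₀ z₀).trans hyz.symm)⟩
  have hZ : irreducibleComponent z₀ ∈ irreducibleComponents Q₀ :=
    irreducibleComponent_mem_irreducibleComponents z₀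
  obtain ⟨w₀, hw₀Z, hw₀⟩ : ∃ w₀ ∈ irreducibleComponent z₀, q₀ w₀ = x₀ := by
    by_contra hne
    push Not at hne
    exact hzbad (Set.mem_iUnion₂.2 ⟨_, ⟨hZ, hne⟩, mem_irreducibleComponent⟩)
  have hgen : IsGenericPoint (isIrreducible_irreducibleComponent (x := z₀)).genericPoint
      (irreducibleComponent z₀) := by
    have := (isIrreducible_irreducibleComponent (x := z₀)).isGenericPoint_genericPoint_closure
    rwa [isClosed_irreducibleComponent.closure_eq] at this
  refine ⟨(q ⁻¹ᵁ V₀).ι (isIrreducible_irreducibleComponent (x := z₀)).genericPoint, (q ⁻¹ᵁ V₀).ι w₀,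
    ?_, ?_, ?_⟩
  · exact (hgen.specializes mem_irreducibleComponent).map (q ⁻¹ᵁ V₀).ι.continuous
  · exact (hgen.specializes hw₀Z).map (q ⁻¹ᵁ V₀).ι.continuous
  · exact (hq₀ w₀).symm.trans (congrArg Subtype.val hw₀)

/-- fppf twisted constant schemes over a locally Noetherian base are quasi-isotrivial. -/
theorem etale_of_fppf_twConst {S : Scheme.{u}} [IsLocallyNoetherian S] {X : Over S}
    (hX : TwC.IsTwConst TwC.Topology.fppf X) : TwC.IsTwConst TwC.Topology.etale X := by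
  haveI := etale_of_fppf hX
  intro s
  obtain ⟨S', f, hfl, hfp, ⟨s', hs'⟩, I, ⟨e⟩⟩ := hX s
  obtain ⟨C₀, hC₀⟩ := exists_split_of_iso f e
  obtain ⟨U₀, hU₀, hsU₀, hU₀le⟩ := exists_isAffineOpen_mem_and_subset (X := S) (x := s)
    (U := (⟨Set.range f, f.isOpenMap.isOpen_range⟩ : S.Opens)) (show s ∈ (⟨Set.range f, f.isOpenMap.isOpen_range⟩ : S.Opens) from ⟨s', hs'⟩)
  haveI : IsAffine U₀.toScheme := hU₀
  haveI : Surjective (f ∣_ U₀) := ⟨fun z => by
    obtain ⟨y, hy⟩ := hU₀le z.2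
    refine ⟨⟨y, show f y ∈ U₀ from hy ▸ z.2⟩, Subtype.ext ?_⟩
    change U₀.ι ((f ∣_ U₀) _) = z.1
    rw [← Scheme.Hom.comp_apply, morphismRestrict_ι]
    exact hy⟩
  haveI : Flat (f ∣_ U₀) := IsZariskiLocalAtTarget.restrict ‹Flat f› U₀
  haveI : LocallyOfFinitePresentation (f ∣_ U₀) := IsZariskiLocalAtTarget.restrict hfp U₀
  obtain ⟨T₀, π₀, hπs, hπf, hπp, hloc⟩ := Groth.L20.QfRefine.exists_finite_dominating (f ∣_ U₀)
  choose D r hyD hr using hloc
  let s₀ : U₀.toScheme := ⟨s, hsU₀⟩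
  have hfin : (π₀ ⁻¹' {s₀}).Finite := π₀.finite_preimage_singleton s₀
  obtain ⟨V, g, u, hg, hgu, κ, hκ, W, v, hWc, hWd, hW, hWcov⟩ :=
    Groth.L20.Weight.exists_isolate π₀ s₀ hfin.toFinset fun x _ => π₀.quasiFiniteAt x
  let πv := pullback.snd π₀ g
  haveI : IsLocallyNoetherian U₀.toScheme := isLocallyNoetherian_of_isOpenImmersion U₀.ι
  haveI : IsLocallyNoetherian V := LocallyOfFiniteType.isLocallyNoetherian g
  haveI : IsFinite πv := MorphismProperty.pullback_snd π₀ g hπf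
  haveI : Surjective πv := MorphismProperty.pullback_snd π₀ g hπs
  -- the pieces
  let D' : κ → T₀.Opens := fun a => D (pullback.fst π₀ g (v a))
  let P₀ : κ → (pullback π₀ g).Opens := fun a => W a ⊓ pullback.fst π₀ g ⁻¹ᵁ D' a
  let rest : Set ↑(pullback π₀ g) := (⋃ a, (P₀ a : Set ↑(pullback π₀ g)))ᶜ
  have hrest : IsClosed rest := (isOpen_iUnion fun a => (P₀ a).2).isClosed_compl
  have hu : u ∉ πv '' rest := by
    rintro ⟨w, hw, hwu⟩
    obtain ⟨a, ha⟩ := hWcov w hwu (hfin.mem_toFinset.2 (by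
      show π₀ (pullback.fst π₀ g w) = s₀
      rw [← Scheme.Hom.comp_apply, pullback.condition, Scheme.Hom.comp_apply]
      exact (congrArg g hwu).trans hgu))
    obtain ⟨h1, -, h3, h4, -, -⟩ := hW a
    refine hw (Set.mem_iUnion.2 ⟨a, ha, ?_⟩)
    show pullback.fst π₀ g w ∈ D' a
    rw [h4 w ha hwu]
    exact hyD _
  obtain ⟨V₁, hu₁, -, hlink⟩ := exists_nhd_linked (pullback.fst πv πv ≫ πv) u
  let V' : V.Opens := V₁ ⊓ ⟨(πv '' rest)ᶜ, (πv.isClosedMap _ hrest).isOpen_compl⟩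
  have hu' : u ∈ V' := ⟨hu₁, hu⟩
  -- everything over `V'`
  let T' := (πv ⁻¹ᵁ V').toScheme
  let π' : T' ⟶ V'.toScheme := πv ∣_ V'
  let j : T' ⟶ pullback π₀ g := (πv ⁻¹ᵁ V').ι
  have hπ' : π' ≫ V'.ι = j ≫ πv := morphismRestrict_ι _ _
  have hπ'pt : ∀ τ : T', (π' τ).1 = πv τ.1 := fun τ =>
    congrArg (fun φ : T' ⟶ V => φ τ) hπ'
  haveI : IsFinite π' := IsZariskiLocalAtTarget.restrict ‹IsFinite πv› V'
  haveI : Surjective π' := IsZariskiLocalAtTarget.restrict ‹Surjective πv› V'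
  let P : κ → T'.Opens := fun a => j ⁻¹ᵁ P₀ a
  have hcov : ∀ τ : T', ∃ a, τ ∈ P a := fun τ => by
    by_contra hne
    push Not at hne
    exact τ.2.2 ⟨τ.1, fun h => (Set.mem_iUnion.1 h).elim hne, rfl⟩
  have hdisj : ∀ (τ : T') (a b : κ), τ ∈ P a → τ ∈ P b → a = b :=
    fun τ a b ha hb => hWd a b ⟨τ.1, ha.1, hb.1⟩
  have htv : ∀ a, v a ∈ πv ⁻¹ᵁ V' := fun a => by
    show πv (v a) ∈ V'
    rw [(hW a).2.2.1]
    exact hu'
  let t : κ → T' := fun a => ⟨v a, htv a⟩
  have ht : ∀ a, t a ∈ P a ∧ π' (t a) = ⟨u, hu'⟩ := fun a =>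
    ⟨⟨(hW a).1, hyD _⟩, Subtype.ext ((hπ'pt _).trans (hW a).2.2.1)⟩
  have huniq : ∀ a, ∀ τ ∈ P a, π' τ = ⟨u, hu'⟩ → τ = t a := fun a τ hτ e =>
    Subtype.ext ((hW a).2.2.2.1 τ.1 hτ.1 ((hπ'pt τ).symm.trans (congrArg Subtype.val e)))
  -- a section of the covering on `T'`
  let f' : V'.toScheme ⟶ S := V'.ι ≫ g ≫ U₀.ι
  let 𝒰 : T'.OpenCover := T'.openCoverOfIsOpenCover P
    (eq_top_iff.2 fun τ _ => TopologicalSpace.Opens.mem_iSup.2 (hcov τ))
  let lift : ∀ a, (P a).toScheme ⟶ S' := fun a =>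
    IsOpenImmersion.lift (D' a).ι ((P a).ι ≫ j ≫ pullback.fst π₀ g) (by
      rintro _ ⟨τ, rfl⟩
      rw [Scheme.Opens.range_ι]
      exact τ.2.2) ≫ r _ ≫ (f ⁻¹ᵁ U₀).ι
  let h : T' ⟶ S' := 𝒰.glueMorphisms lift fun a b => by
    by_cases hab : a = b
    · subst hab
      rw [IsOpenImmersion.mono (𝒰.f a) |> fun _ => (cancel_mono (𝒰.f a)).1 pullback.condition]
    · haveI : IsEmpty ↑(pullback (𝒰.f a) (𝒰.f b)) := ⟨fun z => hab (hdisj _ a b
        (pullback.fst (𝒰.f a) (𝒰.f b) z).2 (by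
          have := congrArg (fun φ : _ ⟶ T' => φ z) (pullback.condition (f := 𝒰.f a) (g := 𝒰.f b))
          have hval : (pullback.fst (𝒰.f a) (𝒰.f b) z).1 = (pullback.snd (𝒰.f a) (𝒰.f b) z).1 := this
          rw [hval]
          exact (pullback.snd (𝒰.f a) (𝒰.f b) z).2))⟩
      exact isInitialOfIsEmpty.hom_ext _ _
  have hh : h ≫ f = π' ≫ f' := by
    refine 𝒰.hom_ext _ _ fun a => ?_
    rw [Scheme.Cover.ι_glueMorphisms_assoc]
    show lift a ≫ f = (P a).ι ≫ π' ≫ f'
    simp only [lift, f', Category.assoc]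
    rw [← morphismRestrict_ι, reassoc_of% hr, IsOpenImmersion.lift_fac_assoc,
      reassoc_of% hπ']
    simp only [Category.assoc, πv]
    rw [pullback.condition_assoc]
  let X' := Red.bc f' X
  haveI : Etale X'.hom := MorphismProperty.pullback_snd X.hom f' ‹Etale X.hom›
  let Y := pullback X'.hom π'
  let k : Y ⟶ X'.left := pullback.fst X'.hom π'
  let p : Y ⟶ T' := pullback.snd X'.hom π'
  have sq : IsPullback k p X'.hom π' := IsPullback.of_hasPullback _ _
  have sqX : IsPullback (k ≫ pullback.fst X.hom f') p X.hom (π' ≫ f') :=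
    sq.paste_horiz (IsPullback.of_hasPullback X.hom f')
  let k₀ : Y ⟶ pullback X.hom f := pullback.lift (k ≫ pullback.fst X.hom f') (p ≫ h)
    (by rw [sqX.w, Category.assoc, hh])
  have sq₀ : IsPullback k₀ p (pullback.snd X.hom f) h := by
    refine IsPullback.of_right ?_ (pullback.lift_snd _ _ _) (IsPullback.of_hasPullback X.hom f)
    rw [pullback.lift_fst, hh]
    exact sqX
  have hrad : ∀ a, ∀ y₁ y₂ : Y, p y₁ = t a → p y₂ = t a → k y₁ = k y₂ → y₁ = y₂ := by
    intro a y₁ y₂ h₁ h₂ hk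
    let β := T'.fromSpecResidueField (t a) ≫ π'
    haveI : UniversallyInjective β := by
      have h5 : UniversallyInjective ((pullback π₀ g).fromSpecResidueField (v a) ≫ πv) :=
        universallyInjective_point πv (v a) (hW a).2.2.2.2.1
      refine (universallyInjective_iff_fieldPoints _).2 fun K _ g₁ g₂ hg => ?_
      have hj : T'.fromSpecResidueField (t a) ≫ j =
          Spec.map (j.residueFieldMap (t a)) ≫ (pullback π₀ g).fromSpecResidueField (v a) :=
        (j.SpecMap_residueFieldMap_fromSpecResidueField (t a)).symm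
      rw [← cancel_mono (Spec.map (j.residueFieldMap (t a)))]
      have h6 : Function.Injective (fun φ : Spec (.of K) ⟶ Spec ((pullback π₀ g).residueField (v a)) =>
          φ ≫ (pullback π₀ g).fromSpecResidueField (v a) ≫ πv) :=
        (universallyInjective_iff_fieldPoints _).1 h5 K
      refine h6 ?_
      show (g₁ ≫ Spec.map _) ≫ (pullback π₀ g).fromSpecResidueField (v a) ≫ πv =
        (g₂ ≫ Spec.map _) ≫ (pullback π₀ g).fromSpecResidueField (v a) ≫ πv
      have e := congrArg (· ≫ V'.ι) hg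
      simp only [β, Category.assoc, hπ'] at e
      rw [reassoc_of% hj] at e
      simp only [Category.assoc]
      exact e
    have sqβ := (IsPullback.of_hasPullback p (T'.fromSpecResidueField (t a))).paste_horiz sq
    haveI : UniversallyInjective (pullback.fst p (T'.fromSpecResidueField (t a)) ≫ k) :=
      MorphismProperty.of_isPullback sqβ.flip ‹_›
    obtain ⟨z₁, hz₁, -⟩ := Scheme.Pullback.exists_preimage_pullback (f := p)
      (g := T'.fromSpecResidueField (t a)) y₁ (IsLocalRing.closedPoint _)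
      (h₁.trans (T'.fromSpecResidueField_apply _ _).symm)
    obtain ⟨z₂, hz₂, -⟩ := Scheme.Pullback.exists_preimage_pullback (f := p)
      (g := T'.fromSpecResidueField (t a)) y₂ (IsLocalRing.closedPoint _)
      (h₂.trans (T'.fromSpecResidueField_apply _ _).symm)
    rw [← hz₁, ← hz₂] at hk ⊢
    exact congrArg _ ((pullback.fst p (T'.fromSpecResidueField (t a)) ≫ k).injective hk)
  have hgen : ∀ z : ↑(pullback π' π'), ∃ e w : ↑(pullback π' π'), e ⤳ z ∧ e ⤳ w ∧
      π' (pullback.fst π' π' w) = ⟨u, hu'⟩ := by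
    intro z
    let m : pullback π' π' ⟶ pullback πv πv := pullback.map π' π' πv πv j j V'.ι hπ' hπ'
    haveI : IsOpenImmersion m := inferInstance
    let Q := pullback.fst πv πv ≫ πv
    have hmQ : ∀ y, Q (m y) = (π' (pullback.fst π' π' y)).1 := fun y => by
      have : m ≫ Q = (pullback.fst π' π' ≫ π') ≫ V'.ι := by
        simp only [Q, m, pullback.map, pullback.lift_fst_assoc, Category.assoc, hπ']
      exact congrArg (fun φ : _ ⟶ V => φ y) this
    have hrange : ∀ y, Q y ∈ V' → y ∈ Set.range m := fun y hy => by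
      rw [Scheme.Pullback.range_map]
      refine ⟨⟨⟨pullback.fst πv πv y, hy⟩, rfl⟩, ⟨⟨pullback.snd πv πv y, ?_⟩, rfl⟩⟩
      show πv (pullback.snd πv πv y) ∈ V'
      rw [← Scheme.Hom.comp_apply, ← pullback.condition]
      exact hy
    have hzV : Q (m z) ∈ V' := (hmQ z).symm ▸ (π' (pullback.fst π' π' z)).2
    obtain ⟨e, w, hez, hew, hwu⟩ := hlink (m z) hzV.1
    obtain ⟨e', rfl⟩ := hrange e ((hez.map Q.continuous).mem_open V'.2 hzV)
    obtain ⟨w', rfl⟩ := hrange w (hwu.symm ▸ hu')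
    exact ⟨e', w', m.isOpenEmbedding.isInducing.specializes_iff.1 hez,
      m.isOpenEmbedding.isInducing.specializes_iff.1 hew, Subtype.ext ((hmQ w').symm.trans hwu)⟩
  obtain ⟨J, hJ⟩ := exists_iso_const X' π' ⟨u, hu'⟩ sq (hC₀.baseChange sq₀) P t hcov hdisj ht huniq
    hrad hgen
  exact ⟨V'.toScheme, f', inferInstance, ⟨⟨u, hu'⟩, congrArg Subtype.val hgu⟩, J, hJ⟩

end Groth.L25.TwConst
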